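import Cfsg.Agent.KFacts.MulHe.Conj
import Cfsg.Agent.KFacts.MulDef

/-!
# The Held group has no perfect double cover (helper40)

All involutions of the Held group lift to involutions of a double cover, so the seven generators of the presentation lift
to elements satisfying all relations.
-/

set_option autoImplicit false
set_option Elab.async false

namespace Cfsg.Agent.KFacts.MulHe.Main

open Cfsg.Agent.KFacts.MulTwo Cfsg.Agent.KFacts.MulDef Cfsg.Agent.KFacts.MulHe.Conj
open Cfsg.Spor Cfsg.Spor.He Cfsg.Agent.SporadicB.HePerm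

/-! ### Squares of lifts of involutions in a double cover -/

section general

variable {L X : Type*} [Group L] [Group X] {π : L →* X} {c : L}

theorem eq_or (h : Dbl π c) {a b : L} (he : π a = π b) : a = b ∨ a = c * b := by
  have h1 : π (a * b⁻¹) = 1 := by rw [map_mul, map_inv, he, mul_inv_cancel]
  rcases (h.ker _).1 h1 with h2 | h2
  · left; exact mul_inv_eq_one.1 h2
  · right; exact mul_inv_eq_iff_eq_mul.1 h2

/-- central elements of the kernel -/
theorem cen_of_ker (h : Dbl π c) {z : L} (hz : π z = 1) : ∀ x, z * x = x * z := by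
  rcases (h.ker z).1 hz with rfl | rfl
  · intro x; rw [one_mul, mul_one]
  · exact h.cen

theorem sq_of_ker (h : Dbl π c) {z : L} (hz : π z = 1) : z * z = 1 := by
  rcases (h.ker z).1 hz with rfl | rfl
  · rw [one_mul]
  · exact h.sq

theorem map_c (h : Dbl π c) : π c = 1 := (h.ker c).2 (Or.inr rfl)

/-- the squares of two lifts agree -/
theorem sq_eq (h : Dbl π c) {a b : L} (he : π a = π b) : a * a = b * b := by
  rcases eq_or h he with rfl | rfl
  · rfl
  · calc c * b * (c * b) = c * (b * c) * b := by group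
      _ = c * (c * b) * b := by rw [h.cen b]
      _ = (c * c) * (b * b) := by group
      _ = b * b := by rw [h.sq, one_mul]

/-- squares of lifts of conjugate involutions agree -/
theorem sq_conj (h : Dbl π c) {a b : L} (ha : π (a * a) = 1) {g : X} (hg : g * π a * g⁻¹ = π b) :
    a * a = b * b := by
  obtain ⟨w, rfl⟩ := h.surj g
  have h1 : π (w * a * w⁻¹) = π b := by rw [map_mul, map_mul, map_inv, hg]
  rw [← sq_eq h h1]
  calc a * a = (a * a) * w * w⁻¹ := by group
    _ = w * (a * a) * w⁻¹ := by rw [cen_of_ker h ha w]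
    _ = w * a * w⁻¹ * (w * a * w⁻¹) := by group

/-- the square of a product of lifts of commuting involutions -/
theorem sq_mul (h : Dbl π c) {a b : L} (ha : π (a * a) = 1) (hab : π (a * b * a⁻¹ * b⁻¹) = 1) :
    (a * b) * (a * b) = (a * b * a⁻¹ * b⁻¹) * (a * a) * (b * b) := by
  have hk := cen_of_ker h hab
  have h2 := cen_of_ker h ha
  calc (a * b) * (a * b) = (a * b * a⁻¹ * b⁻¹) * (b * a) * (a * b) := by group
    _ = (a * b * a⁻¹ * b⁻¹) * (b * (a * a)) * b := by group
    _ = (a * b * a⁻¹ * b⁻¹) * ((a * a) * b) * b := by rw [h2 b]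
    _ = _ := by group

/-- if the squares of lifts of commuting involutions `x`, `y`, `x y` are known, so is the commutator of the lifts -/
theorem comm_eq (h : Dbl π c) {a b : L} (ha : π (a * a) = 1)
    (hab : π (a * b) = π (b * a)) {s : L} (h1 : (a * b) * (a * b) = s * ((a * a) * (b * b))) :
    a * b = s * (b * a) := by
  have hk : π (a * b * a⁻¹ * b⁻¹) = 1 := by
    have e : a * b * a⁻¹ * b⁻¹ = (a * b) * (b * a)⁻¹ := by group
    rw [e, map_mul, map_inv, hab, mul_inv_cancel]
  rw [sq_mul h ha hk, mul_assoc] at h1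
  have h2 := mul_right_cancel h1
  calc a * b = (a * b * a⁻¹ * b⁻¹) * (b * a) := by group
    _ = s * (b * a) := by rw [h2]

end general

/-! ### All involutions of the Held group lift to involutions -/

/-- the word in lifts -/
def lw {L : Type*} [Group L] (x : Gen → L) (w : List Gen) : L := (w.map x).prod

theorem lw_cons {L : Type*} [Group L] (x : Gen → L) (y : Gen) (w : List Gen) : lw x (y :: w) = x y * lw x w := by
  unfold lw; rw [List.map_cons, List.prod_cons]

theorem lw_nil {L : Type*} [Group L] (x : Gen → L) : lw x [] = 1 := rfl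

section held

variable {L : Type*} [Group L] {π : L →* Cfsg.Spor.He} {c : L} {x : Gen → L}

theorem map_lw (hx : ∀ y, π (x y) = PresentedGroup.of y) (w : List Gen) : π (lw x w) = wd w := by
  unfold lw wd
  rw [map_list_prod, List.map_map]
  congr 2
  funext y
  exact hx y

/-- the square of the lift of a word conjugate to a generator -/
theorem sq_cj (h : Dbl π c) (hx : ∀ y, π (x y) = PresentedGroup.of y) {w : List Gen} {t : Gen} (hw : Cj w t) :
    lw x w * lw x w = x t * x t := by
  obtain ⟨g, hg⟩ := hw
  symm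
  refine sq_conj h (g := g⁻¹) ?_ ?_
  · rw [map_mul, hx, of_mul_self]
  · rw [hx, ← hg, map_lw hx]; group

theorem sq_d (h : Dbl π c) (hx : ∀ y, π (x y) = PresentedGroup.of y) : x .d * x .d = 1 := by
  have hker : ∀ y, π (x y * x y) = 1 := fun y => by rw [map_mul, hx, of_mul_self]
  have e1 := sq_cj h hx cj_e
  have e2 := sq_cj h hx cj_f
  have e3 := sq_cj h hx cj_g
  have e4 := sq_cj h hx cj_ad
  have e5 := sq_cj h hx cj_ae
  have e6 := sq_cj h hx cj_af
  have e7 := sq_cj h hx cj_ag
  simp only [lw_cons, lw_nil, mul_one] at e1 e2 e3 e4 e5 e6 e7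
  have hcm : ∀ y : Gen, π (x .a * x y) * π (x .a * x y) = 1 → π (x .a * x y) = π (x y * x .a) := by
    intro y hy
    have h1 := eq_inv_of_mul_eq_one_left hy
    rw [h1, ← map_inv, mul_inv_rev, map_mul, map_mul, map_inv, map_inv, hx, hx,
      inv_eq_of_mul_eq_one_left (of_mul_self y), inv_eq_of_mul_eq_one_left (of_mul_self .a)]
  have key : ∀ y : Gen, x y * x y = x .d * x .d → (x .a * x y) * (x .a * x y) = x .a * x .a →
      x .a * x y = (x .d * x .d) * (x y * x .a) := by
    intro y hy h1
    refine comm_eq h (hker .a) (hcm y ?_) ?_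
    · rw [← map_mul, h1, hker]
    · rw [h1, hy]
      calc x .a * x .a = (x .a * x .a) * 1 := by rw [mul_one]
        _ = (x .a * x .a) * ((x .d * x .d) * (x .d * x .d)) := by rw [sq_of_ker h (hker .d)]
        _ = ((x .a * x .a) * (x .d * x .d)) * (x .d * x .d) := by group
        _ = ((x .d * x .d) * (x .a * x .a)) * (x .d * x .d) := by rw [cen_of_ker h (hker .a)]
        _ = _ := by group
  have kf := key .f e2 e6
  have kg := key .g e3 e7
  have ke := key .e e1 e5
  set s := x .d * x .d with hs
  have hsc := cen_of_ker h (hker .d)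
  have hss := sq_of_ker h (hker .d)
  rw [← hs] at hsc hss
  -- `e` lifts to `(f g)²`
  have hfg : x .a * (x .f * x .g) = (x .f * x .g) * x .a := by
    calc x .a * (x .f * x .g) = (x .a * x .f) * x .g := by group
      _ = s * (x .f * x .a) * x .g := by rw [kf]
      _ = s * x .f * (x .a * x .g) := by group
      _ = s * x .f * (s * (x .g * x .a)) := by rw [kg]
      _ = s * (x .f * s) * x .g * x .a := by group
      _ = s * (s * x .f) * x .g * x .a := by rw [← hsc (x .f)]
      _ = (s * s) * (x .f * x .g * x .a) := by group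
      _ = _ := by rw [hss, one_mul]
  have hrel : π (x .e) = π ((x .f * x .g) * (x .f * x .g)) := by
    rw [map_mul, map_mul, hx, hx, hx]
    have h1 : (PresentedGroup.of .e : Cfsg.Spor.He) * ((PresentedGroup.of .f * PresentedGroup.of .g) ^ 2)⁻¹ = 1 := by
      have := PresentedGroup.one_of_mem (rels := coxRelators edges ∪ {r | r ∈ extra})
        (x := e * ((f * g) ^ 2)⁻¹) (Or.inr (by simp [extra]))
      rw [← this]; rfl
    rw [mul_inv_eq_one] at h1
    rw [h1, pow_two]
  have hae : x .a * x .e = x .e * x .a := by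
    have h2 : x .a * ((x .f * x .g) * (x .f * x .g)) = ((x .f * x .g) * (x .f * x .g)) * x .a := by
      calc x .a * ((x .f * x .g) * (x .f * x .g)) = (x .a * (x .f * x .g)) * (x .f * x .g) := by group
        _ = (x .f * x .g) * x .a * (x .f * x .g) := by rw [hfg]
        _ = (x .f * x .g) * (x .a * (x .f * x .g)) := by group
        _ = (x .f * x .g) * ((x .f * x .g) * x .a) := by rw [hfg]
        _ = _ := by group
    rcases eq_or h hrel with h3 | h3
    · rw [h3, h2]
    · rw [h3]
      calc x .a * (c * ((x .f * x .g) * (x .f * x .g))) = (x .a * c) * ((x .f * x .g) * (x .f * x .g)) := by group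
        _ = (c * x .a) * ((x .f * x .g) * (x .f * x .g)) := by rw [h.cen]
        _ = c * (x .a * ((x .f * x .g) * (x .f * x .g))) := by group
        _ = c * (((x .f * x .g) * (x .f * x .g)) * x .a) := by rw [h2]
        _ = _ := by group
  rw [hae] at ke
  exact (mul_eq_right.1 ke.symm)

theorem sq_a (h : Dbl π c) (hx : ∀ y, π (x y) = PresentedGroup.of y) : x .a * x .a = 1 := by
  have hker : ∀ y, π (x y * x y) = 1 := fun y => by rw [map_mul, hx, of_mul_self]
  have hd := sq_d h hx
  have e1 := sq_cj h hx cj_c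
  have e2 := sq_cj h hx cj_f
  have e4 := sq_cj h hx cj_ad
  have e5 := sq_cj h hx cj_ac
  have e6 := sq_cj h hx cj_af
  have e7 := sq_cj h hx cj_x
  have e8 := sq_cj h hx cj_ax
  rw [hd] at e2 e5
  have hax : ∀ w, lw x (.a :: w) = x .a * lw x w := fun w => lw_cons x .a w
  rw [hax] at e8
  simp only [lw_cons, lw_nil, mul_one] at e1 e2 e4 e5 e6
  have hcm : ∀ y : Gen, π (x .a * x y) * π (x .a * x y) = 1 → π (x .a * x y) = π (x y * x .a) := by
    intro y hy
    have h1 := eq_inv_of_mul_eq_one_left hy
    rw [h1, ← map_inv, mul_inv_rev, map_mul, map_mul, map_inv, map_inv, hx, hx,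
      inv_eq_of_mul_eq_one_left (of_mul_self y), inv_eq_of_mul_eq_one_left (of_mul_self .a)]
  have haa := sq_of_ker h (hker .a)
  have kd : x .a * x .d = x .d * x .a := by
    have := comm_eq h (hker .a) (hcm .d (by rw [← map_mul, e4, hker])) (s := 1)
      (by rw [e4, hd, mul_one, one_mul])
    rwa [one_mul] at this
  have kf : x .a * x .f = x .f * x .a := by
    have := comm_eq h (hker .a) (hcm .f (by rw [← map_mul, e6, hker])) (s := 1)
      (by rw [e6, e2, mul_one, one_mul])
    rwa [one_mul] at this
  have kc : x .a * x .c = x .c * x .a := by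
    have := comm_eq h (hker .a) (hcm .c (by rw [← map_mul, e5, map_one])) (s := 1)
      (by rw [e5, e1, haa, one_mul])
    rwa [one_mul] at this
  have kx : ∀ w : List Gen, (∀ y ∈ w, x .a * x y = x y * x .a) → x .a * lw x w = lw x w * x .a := by
    intro w
    induction w with
    | nil => intro _; rw [lw_nil, one_mul, mul_one]
    | cons y w ih =>
      intro hw
      rw [lw_cons]
      calc x .a * (x y * lw x w) = (x .a * x y) * lw x w := by group
        _ = x y * x .a * lw x w := by rw [hw y (List.mem_cons_self ..)]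
        _ = x y * (x .a * lw x w) := by group
        _ = x y * (lw x w * x .a) := by rw [ih (fun z hz => hw z (List.mem_cons_of_mem _ hz))]
        _ = _ := by group
  have k := kx [.c, .d, .f, .c, .d, .f, .c, .d, .f, .c, .d, .f, .c, .d, .f] (by
    intro y hy
    simp only [List.mem_cons, List.not_mem_nil, or_false] at hy
    rcases hy with rfl | rfl | rfl | rfl | rfl | rfl | rfl | rfl | rfl | rfl | rfl | rfl | rfl | rfl | rfl <;>
      assumption)
  set y := lw x [.c, .d, .f, .c, .d, .f, .c, .d, .f, .c, .d, .f, .c, .d, .f] with hy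
  have h9 : (x .a * y) * (x .a * y) = (x .a * x .a) * (y * y) := by
    calc (x .a * y) * (x .a * y) = x .a * (y * x .a) * y := by group
      _ = x .a * (x .a * y) * y := by rw [k]
      _ = _ := by group
  rw [h9, e7] at e8
  exact mul_eq_left.1 e8

theorem sq_of_cj (h : Dbl π c) (hx : ∀ y, π (x y) = PresentedGroup.of y) {w : List Gen} {t : Gen} (hw : Cj w t)
    (ht : t = .a ∨ t = .d) : lw x w * lw x w = 1 := by
  rw [sq_cj h hx hw]
  rcases ht with rfl | rfl
  · exact sq_a h hx
  · exact sq_d h hx

/-! ### Lifts satisfying all relations -/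

theorem rel (r : FreeGroup Gen) (hr : r ∈ extra) : (PresentedGroup.mk (coxRelators edges ∪ {r | r ∈ extra}) r) = 1 :=
  PresentedGroup.one_of_mem (Or.inr hr)

/-- the lift `y` or `c y` of the generator satisfies an odd relation -/
theorem odd_adjust (h : Dbl π c) {a b : L} (hab : π ((a * b) ^ 3) = 1) :
    ∃ a', π a' = π a ∧ (a' = a ∨ a' = c * a) ∧ (a' * b) ^ 3 = 1 := by
  rcases (h.ker _).1 hab with h1 | h1
  · exact ⟨a, rfl, Or.inl rfl, h1⟩
  · refine ⟨c * a, by rw [map_mul, map_c h, one_mul], Or.inr rfl, ?_⟩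
    have hc : Commute c (a * b) := h.cen _
    rw [mul_assoc, hc.mul_pow, h1, pow_succ, pow_two, h.sq, one_mul, h.sq]

theorem exists_lifts (h : Dbl π c) : ∃ x : Gen → L, (∀ y, π (x y) = PresentedGroup.of y) ∧
    (x .b * x .c) ^ 3 = 1 ∧ (x .d * x .e) ^ 3 = 1 ∧ (x .f * x .d) ^ 3 = 1 ∧ (x .g * x .d) ^ 3 = 1 ∧
    x .e = (x .f * x .g) ^ 2 ∧ x .a = (x .c * x .d) ^ 5 ∧ x .e = (x .a * x .b * x .c) ^ 3 := by
  -- relations in the Held group
  have hpow : ∀ {y z : Gen}, coxLabel edges y z = 3 → y ∈ coxNodes edges → z ∈ coxNodes edges →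
      (PresentedGroup.of y * PresentedGroup.of z : Cfsg.Spor.He) ^ 3 = 1 := by
    intro y z h3 hy hz
    have := PresentedGroup.one_of_mem (rels := coxRelators edges ∪ {r | r ∈ extra})
      (x := (FreeGroup.of y * FreeGroup.of z) ^ coxLabel edges y z) (Or.inl ⟨y, hy, z, hz, rfl⟩)
    rw [h3] at this
    rw [← this]; rfl
  have hbc : (PresentedGroup.of .b * PresentedGroup.of .c : Cfsg.Spor.He) ^ 3 = 1 :=
    hpow (by decide) (by decide) (by decide)
  have hde : (PresentedGroup.of .d * PresentedGroup.of .e : Cfsg.Spor.He) ^ 3 = 1 :=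
    hpow (by decide) (by decide) (by decide)
  have hfd : (PresentedGroup.of .f * PresentedGroup.of .d : Cfsg.Spor.He) ^ 3 = 1 :=
    hpow (by decide) (by decide) (by decide)
  have hgd : (PresentedGroup.of .g * PresentedGroup.of .d : Cfsg.Spor.He) ^ 3 = 1 :=
    hpow (by decide) (by decide) (by decide)
  have he : (PresentedGroup.of .e : Cfsg.Spor.He) = (PresentedGroup.of .f * PresentedGroup.of .g) ^ 2 := by
    have := rel (e * ((f * g) ^ 2)⁻¹) (by simp [extra])
    exact mul_inv_eq_one.1 this
  have he' : (PresentedGroup.of .e : Cfsg.Spor.He) =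
      (PresentedGroup.of .a * PresentedGroup.of .b * PresentedGroup.of .c) ^ 3 := by
    have := rel (e * ((a * b * He.c) ^ 3)⁻¹) (by simp [extra])
    exact mul_inv_eq_one.1 this
  have ha' : (PresentedGroup.of .a : Cfsg.Spor.He) = (PresentedGroup.of .c * PresentedGroup.of .d) ^ 5 := by
    have := rel (a * ((He.c * d) ^ 5)⁻¹) (by simp [extra])
    exact mul_inv_eq_one.1 this
  obtain ⟨F, hF⟩ := h.surj (PresentedGroup.of .f)
  obtain ⟨G, hG⟩ := h.surj (PresentedGroup.of .g)
  obtain ⟨D, hD⟩ := h.surj (PresentedGroup.of .d)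
  obtain ⟨C, hC⟩ := h.surj (PresentedGroup.of .c)
  obtain ⟨B, hB⟩ := h.surj (PresentedGroup.of .b)
  have hc2 : ∀ {u v : L}, (c * u) * (c * v) = u * v := by
    intro u v
    calc (c * u) * (c * v) = c * (u * c) * v := by group
      _ = c * (c * u) * v := by rw [h.cen u]
      _ = (c * c) * (u * v) := by group
      _ = u * v := by rw [h.sq, one_mul]
  have hcp2 : ∀ u : L, (c * u) ^ 2 = u ^ 2 := fun u => by rw [pow_two, hc2, pow_two]
  -- `e`
  set E := (F * G) ^ 2 with hE
  have hE' : π E = PresentedGroup.of .e := by rw [hE, map_pow, map_mul, hF, hG, he]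
  obtain ⟨D', hD', -, hDE⟩ := odd_adjust h (a := D) (b := E) (by rw [map_pow, map_mul, hD, hE', hde])
  rw [hD] at hD'
  obtain ⟨F', hF', hF1, hFD⟩ := odd_adjust h (a := F) (b := D') (by rw [map_pow, map_mul, hF, hD', hfd])
  obtain ⟨G', hG', hG1, hGD⟩ := odd_adjust h (a := G) (b := D') (by rw [map_pow, map_mul, hG, hD', hgd])
  rw [hF] at hF'
  rw [hG] at hG'
  have hFG : (F' * G') ^ 2 = E := by
    rw [hE]
    rcases hF1 with rfl | rfl <;> rcases hG1 with rfl | rfl
    · rfl
    · rw [show F' * (c * G) = c * (F' * G) by rw [← mul_assoc, ← h.cen, mul_assoc], hcp2]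
    · rw [mul_assoc, hcp2]
    · rw [hc2]
  obtain ⟨B', hB', -, hBC⟩ := odd_adjust h (a := B) (b := C) (by rw [map_pow, map_mul, hB, hC, hbc])
  rw [hB] at hB'
  set A := (C * D') ^ 5 with hA
  have hA' : π A = PresentedGroup.of .a := by rw [hA, map_pow, map_mul, hC, hD', ha']
  have h1 : π ((A * B' * C) ^ 3) = π E := by
    rw [map_pow, map_mul, map_mul, hA', hB', hC, hE', he']
  rcases eq_or h h1 with h2 | h2
  · refine ⟨fun y => match y with
      | .a => A | .b => B' | .c => C | .d => D' | .e => E | .f => F' | .g => G', ?_, hBC, hDE, hFD, hGD,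
      hFG.symm, hA, h2.symm⟩
    intro y
    cases y
    · exact hA'
    · exact hB'
    · exact hC
    · exact hD'
    · exact hE'
    · exact hF'
    · exact hG'
  · have hcc : c ^ 5 = c := by
      rw [pow_succ, show (4 : ℕ) = 2 * 2 from rfl, pow_mul, pow_two c, h.sq, one_pow, one_mul]
    have hc3 : c ^ 3 = c := by rw [pow_succ, pow_two, h.sq, one_mul]
    refine ⟨fun y => match y with
      | .a => c * A | .b => c * B' | .c => c * C | .d => D' | .e => E | .f => F' | .g => G', ?_, ?_, hDE, hFD, hGD,
      hFG.symm, ?_, ?_⟩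
    · intro y
      cases y
      · show π (c * A) = _
        rw [map_mul, map_c h, one_mul, hA']
      · show π (c * B') = _
        rw [map_mul, map_c h, one_mul, hB']
      · show π (c * C) = _
        rw [map_mul, map_c h, one_mul, hC]
      · exact hD'
      · exact hE'
      · exact hF'
      · exact hG'
    · show (c * B' * (c * C)) ^ 3 = 1
      rw [hc2, hBC]
    · show c * A = (c * C * D') ^ 5
      have hcm : Commute c (C * D') := h.cen _
      rw [mul_assoc c C D', hcm.mul_pow, hcc]
    · show E = (c * A * (c * B') * (c * C)) ^ 3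
      have hcm : Commute c (A * B' * C) := h.cen _
      have e : c * A * (c * B') * (c * C) = c * (A * B' * C) := by
        rw [hc2, ← mul_assoc, ← h.cen]; group
      rw [e, hcm.mul_pow, hc3, h2, ← mul_assoc, h.sq, one_mul]

theorem cox (h : Dbl π c) (hx : ∀ y, π (x y) = PresentedGroup.of y)
    (hbc : (x .b * x .c) ^ 3 = 1) (hde : (x .d * x .e) ^ 3 = 1) (hfd : (x .f * x .d) ^ 3 = 1)
    (hgd : (x .g * x .d) ^ 3 = 1) (he : x .e = (x .f * x .g) ^ 2) (ha : x .a = (x .c * x .d) ^ 5) (y z : Gen) :
    (x y * x z) ^ coxLabel edges y z = 1 := by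
  have swap : ∀ {u v : L} {n : ℕ}, (u * v) ^ n = 1 → (v * u) ^ n = 1 := by
    intro u v n huv
    have e : v * u = u⁻¹ * (u * v) * u := by group
    have e2 : (u⁻¹ * (u * v) * u) ^ n = u⁻¹ * (u * v) ^ n * u := by
      have := conj_pow (i := n) (a := u⁻¹) (b := u * v)
      rwa [inv_inv] at this
    rw [e, e2, huv]; group
  have hda := sq_a h hx
  have hdd := sq_d h hx
  have one : ∀ {v : List Gen} {t : Gen}, Cj v t → (t = .a ∨ t = .d) → lw x v * lw x v = 1 :=
    fun hv ht => sq_of_cj h hx hv ht
  have hb := one cj_b (Or.inl rfl)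
  have hc := one cj_c (Or.inl rfl)
  have hee := one cj_e (Or.inr rfl)
  have hf := one cj_f (Or.inr rfl)
  have hg := one cj_g (Or.inr rfl)
  have ac := one cj_ac (Or.inr rfl)
  have ad := one cj_ad (Or.inl rfl)
  have ae := one cj_ae (Or.inl rfl)
  have af := one cj_af (Or.inl rfl)
  have ag := one cj_ag (Or.inl rfl)
  have bd := one cj_bd (Or.inr rfl)
  have be := one cj_be (Or.inr rfl)
  have bf := one cj_bf (Or.inr rfl)
  have bg := one cj_bg (Or.inr rfl)
  have ce := one cj_ce (Or.inr rfl)
  have cf := one cj_cf (Or.inr rfl)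
  have cg := one cj_cg (Or.inr rfl)
  have ef := one cj_ef (Or.inr rfl)
  have eg := one cj_eg (Or.inr rfl)
  have ab := one cj_ab2 (Or.inl rfl)
  simp only [lw_cons, lw_nil, mul_one] at hb hc hee hf hg ac ad ae af ag bd be bf bg ce cf cg ef eg ab
  simp only [← pow_two] at ac ad ae af ag bd be bf bg ce cf cg ef eg
  have ab4 : (x .a * x .b) ^ 4 = 1 := by rw [← ab]; simp only [pow_succ, pow_zero, one_mul, mul_assoc]
  have cd10 : (x .c * x .d) ^ 10 = 1 := by
    rw [show (10 : ℕ) = 5 * 2 from rfl, pow_mul, ← ha, pow_two, hda]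
  have fg4 : (x .f * x .g) ^ 4 = 1 := by
    rw [show (4 : ℕ) = 2 * 2 from rfl, pow_mul, ← he, pow_two, hee]
  cases y <;> cases z
  case a.a => exact (pow_one _).trans hda
  case b.b => exact (pow_one _).trans hb
  case c.c => exact (pow_one _).trans hc
  case d.d => exact (pow_one _).trans hdd
  case e.e => exact (pow_one _).trans hee
  case f.f => exact (pow_one _).trans hf
  case g.g => exact (pow_one _).trans hg
  all_goals first
    | exact ab4 | exact swap ab4 | exact cd10 | exact swap cd10 | exact fg4 | exact swap fg4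
    | exact hbc | exact swap hbc | exact hde | exact swap hde | exact hfd | exact swap hfd | exact hgd | exact swap hgd
    | exact ac | exact swap ac | exact ad | exact swap ad | exact ae | exact swap ae | exact af | exact swap af
    | exact ag | exact swap ag | exact bd | exact swap bd | exact be | exact swap be | exact bf | exact swap bf
    | exact bg | exact swap bg | exact ce | exact swap ce | exact cf | exact swap cf | exact cg | exact swap cg
    | exact ef | exact swap ef | exact eg | exact swap eg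

theorem exists_section (h : Dbl π c) : ∃ σ : Cfsg.Spor.He →* L, ∀ y, π (σ y) = y := by
  obtain ⟨x, hx, hbc, hde, hfd, hgd, he, ha, he'⟩ := exists_lifts h
  have hrel : ∀ r ∈ coxRelators edges ∪ {r | r ∈ extra}, FreeGroup.lift x r = 1 := by
    rintro r (⟨y, -, z, -, rfl⟩ | hr)
    · rw [map_pow, map_mul, FreeGroup.lift_apply_of, FreeGroup.lift_apply_of]
      exact cox h hx hbc hde hfd hgd he ha y z
    · have hr' : r ∈ extra := hr
      simp only [extra, List.mem_cons, List.not_mem_nil, or_false] at hr'
      rcases hr' with rfl | rfl | rfl | rfl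
      · simp only [map_mul, map_inv, map_pow, FreeGroup.lift_apply_of]
        rw [← he, mul_inv_cancel]
      · simp only [map_mul, map_inv, map_pow, FreeGroup.lift_apply_of]
        rw [← he', mul_inv_cancel]
      · simp only [map_mul, map_inv, map_pow, FreeGroup.lift_apply_of]
        rw [← ha, mul_inv_cancel]
      · simp only [map_mul, map_pow, FreeGroup.lift_apply_of]
        have h1 := sq_of_cj h hx cj_cdfg2 (Or.inr rfl)
        simp only [lw_cons, lw_nil, mul_one] at h1
        rw [← h1]; simp only [pow_succ, pow_zero, one_mul, mul_assoc]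
  refine ⟨PresentedGroup.toGroup hrel, ?_⟩
  have h1 : π.comp (PresentedGroup.toGroup hrel) = MonoidHom.id _ := by
    apply PresentedGroup.ext
    intro y
    show π (PresentedGroup.toGroup hrel (PresentedGroup.of y)) = _
    rw [PresentedGroup.toGroup.of, hx]; rfl
  exact fun y => DFunLike.congr_fun h1 y

end held

/-- **The Held group has no perfect double cover.** -/
theorem noDouble : NoDouble Cfsg.Spor.He := by
  intro L _ _ π c h
  obtain ⟨σ, hσ⟩ := exists_section h
  refine h.toCtr.false_of_compl (P := ⊤) (P₁ := σ.range) (Subgroup.mem_top _) (by rw [Subgroup.index_top]; decide)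
    ?_ ?_
  · rintro ⟨y, hy⟩
    have h1 := hσ y
    rw [hy, map_c h] at h1
    rw [← h1, map_one] at hy
    exact h.ne hy.symm
  · intro y _
    have h1 : π (σ (π y)) = π y := hσ _
    rcases eq_or h h1 with h2 | h2
    · left; exact ⟨_, h2⟩
    · right; exact ⟨_, h2⟩

end Cfsg.Agent.KFacts.MulHe.Main
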